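import Mathlib.CategoryTheory.Triangulated.Pretriangulated
import Mathlib.CategoryTheory.Linear.Basic
import Mathlib.CategoryTheory.Linear.LinearFunctor
import Mathlib.LinearAlgebra.Dual.Lemmas
import Mathlib.CategoryTheory.Triangulated.Triangulated

/-!
Serre functors are exact.
-/

set_option autoImplicit false

universe w v u

open CategoryTheory CategoryTheory.Limits CategoryTheory.Pretriangulated

namespace Groth.L29.SerreExact

variable {k : Type w} [Field k] {T : Type u} [Category.{v} T] [Preadditive T] [Linear k T]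
  (S : T ⥤ T) [S.Additive] [S.Linear k]

/-- the data of a Serre functor, through the trace -/
structure Data where
  tr : ∀ X : T, (X ⟶ S.obj X) →ₗ[k] k
  cyc : ∀ {X' X : T} (a : X' ⟶ X) (b : X ⟶ S.obj X'), tr X' (a ≫ b) = tr X (b ≫ S.map a)
  bij : ∀ X Y : T, Function.Bijective fun (b : Y ⟶ S.obj X) =>
    ((tr X) ∘ₗ Linear.rightComp k X b : Module.Dual k (X ⟶ Y))
  essSurj : S.EssSurj
  full : S.Full
  faithful : S.Faithful

theorem exists_data (S : T ≌ T) [S.functor.Additive] [S.functor.Linear k]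
    [∀ X Y : T, Module.Finite k (X ⟶ Y)]
    (c : ∀ X Y : T, (X ⟶ Y) ≃ₗ[k] Module.Dual k (Y ⟶ S.functor.obj X))
    (hc₁ : ∀ (X Y Y' : T) (f : X ⟶ Y) (g : Y ⟶ Y'),
      c X Y' (f ≫ g) = (c X Y f) ∘ₗ Linear.leftComp k (S.functor.obj X) g)
    (hc₂ : ∀ (X' X Y : T) (a : X' ⟶ X) (f : X ⟶ Y),
      c X' Y (a ≫ f) = (c X Y f) ∘ₗ Linear.rightComp k Y (S.functor.map a)) :
    Nonempty (Data (k := k) S.functor) := by
  have key : ∀ (X Y : T) (a : X ⟶ Y) (b : Y ⟶ S.functor.obj X), c X Y a b = c X X (𝟙 X) (a ≫ b) := fun X Y a b => by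
    have h := congrArg (fun l => l b) (hc₁ X X Y (𝟙 X) a)
    rw [Category.id_comp] at h
    exact h
  refine ⟨⟨fun X => c X X (𝟙 X), fun {X' X} a b => ?_, fun X Y => ?_, inferInstance, inferInstance, inferInstance⟩⟩
  · have h := congrArg (fun l => l b) (hc₂ X' X X a (𝟙 X))
    rw [Category.comp_id, key] at h
    exact h
  · have h : (fun (b : Y ⟶ S.functor.obj X) =>
        ((c X X (𝟙 X)) ∘ₗ Linear.rightComp k X b : Module.Dual k (X ⟶ Y))) =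
        (Module.evalEquiv k (Y ⟶ S.functor.obj X)).trans (c X Y).dualMap := by
      funext b
      refine LinearMap.ext fun a => ?_
      show c X X (𝟙 X) (a ≫ b) = c X Y a b
      rw [key X Y a b]
    rw [h]
    exact LinearEquiv.bijective _

variable {S} (D : Data (k := k) S)

theorem Data.ext {X Y : T} {b b' : Y ⟶ S.obj X} (h : ∀ a : X ⟶ Y, D.tr X (a ≫ b) = D.tr X (a ≫ b')) : b = b' :=
  (D.bij X Y).1 (LinearMap.ext h)

variable [HasShift T ℤ] [∀ n : ℤ, (shiftFunctor T n).Additive] [∀ n : ℤ, (shiftFunctor T n).Linear k]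

theorem Data.exists_comparison (X : T) :
    ∃ E : (S.obj X)⟦(1 : ℤ)⟧ ⟶ S.obj (X⟦(1 : ℤ)⟧), IsIso E ∧
      ∀ x : X ⟶ S.obj X, D.tr (X⟦(1 : ℤ)⟧) (x⟦(1 : ℤ)⟧' ≫ E) = - D.tr X x := by
  let σ : ∀ Y : T, (X ⟶ Y) ≃ₗ[k] (X⟦(1 : ℤ)⟧ ⟶ Y⟦(1 : ℤ)⟧) := fun Y =>
    LinearEquiv.ofBijective ((shiftFunctor T (1 : ℤ)).mapLinearMap k)
      ⟨(shiftFunctor T (1 : ℤ)).map_injective, (shiftFunctor T (1 : ℤ)).map_surjective⟩
  obtain ⟨E, hE⟩ := (D.bij (X⟦(1 : ℤ)⟧) ((S.obj X)⟦(1 : ℤ)⟧)).2 (-((D.tr X) ∘ₗ (σ _).symm.toLinearMap))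
  have hE' : ∀ x : X ⟶ S.obj X, D.tr (X⟦(1 : ℤ)⟧) (x⟦(1 : ℤ)⟧' ≫ E) = - D.tr X x := fun x => by
    have h := congrArg (fun l => l (σ _ x)) hE
    simp only [LinearMap.neg_apply, LinearMap.comp_apply, LinearEquiv.coe_toLinearMap,
      LinearEquiv.symm_apply_apply] at h
    exact h
  -- postcomposition with `E` is bijective from every shifted object
  have hb : ∀ Y : T, Function.Bijective fun r : Y ⟶ S.obj X => r⟦(1 : ℤ)⟧' ≫ E := fun Y => by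
    have h1 : ∀ r : Y ⟶ S.obj X, ∀ a : X ⟶ Y,
        D.tr (X⟦(1 : ℤ)⟧) (a⟦(1 : ℤ)⟧' ≫ r⟦(1 : ℤ)⟧' ≫ E) = - D.tr X (a ≫ r) := fun r a => by
      rw [← Category.assoc, ← Functor.map_comp, hE']
    refine ⟨fun r r' hrr => D.ext fun a => neg_injective ?_, fun p => ?_⟩
    · rw [← h1, ← h1]
      exact congrArg (fun q => D.tr (X⟦(1 : ℤ)⟧) (a⟦(1 : ℤ)⟧' ≫ q)) hrr
    · obtain ⟨r, hr⟩ := (D.bij X Y).2
        (-(((D.tr (X⟦(1 : ℤ)⟧)) ∘ₗ Linear.rightComp k (X⟦(1 : ℤ)⟧) p) ∘ₗ (σ Y).toLinearMap))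
      refine ⟨r, D.ext fun a' => ?_⟩
      obtain ⟨a, rfl⟩ := (σ Y).surjective a'
      show D.tr _ (a⟦(1 : ℤ)⟧' ≫ r⟦(1 : ℤ)⟧' ≫ E) = D.tr _ (σ Y a ≫ p)
      rw [h1]
      have h := congrArg (fun l => l a) hr
      simp only [LinearMap.neg_apply, LinearMap.comp_apply, LinearEquiv.coe_toLinearMap,
        Linear.rightComp_apply] at h
      rw [h, neg_neg]
  refine ⟨E, ?_, hE'⟩
  let Y := (shiftFunctor T (1 : ℤ)).objPreimage (S.obj (X⟦(1 : ℤ)⟧))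
  let ι : Y⟦(1 : ℤ)⟧ ≅ S.obj (X⟦(1 : ℤ)⟧) := (shiftFunctor T (1 : ℤ)).objObjPreimageIso _
  obtain ⟨r, hr⟩ := (hb Y).2 ι.hom
  change r⟦(1 : ℤ)⟧' ≫ E = ι.hom at hr
  refine ⟨ι.inv ≫ r⟦(1 : ℤ)⟧', ?_, ?_⟩
  · obtain ⟨p, hp⟩ := (shiftFunctor T (1 : ℤ)).map_surjective (E ≫ ι.inv ≫ r⟦(1 : ℤ)⟧')
    rw [← hp, show p = 𝟙 _ from (hb _).1 ?_, CategoryTheory.Functor.map_id]
    show p⟦(1 : ℤ)⟧' ≫ E = (𝟙 (S.obj X))⟦(1 : ℤ)⟧' ≫ E
    rw [hp, CategoryTheory.Functor.map_id, Category.id_comp, Category.assoc, Category.assoc, hr, ι.inv_hom_id,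
      Category.comp_id]
  · rw [Category.assoc, hr, ι.inv_hom_id]

include D in
theorem Data.main [HasZeroObject T] [Pretriangulated T] :
    ∃ e : shiftFunctor T (1 : ℤ) ⋙ S ≅ S ⋙ shiftFunctor T (1 : ℤ),
      ∀ T' ∈ distTriang T,
        Triangle.mk (S.map T'.mor₁) (S.map T'.mor₂) (S.map T'.mor₃ ≫ e.hom.app T'.obj₁) ∈ distTriang T := by
  haveI := D.full
  haveI := D.faithful
  choose E hiso hE using D.exists_comparison
  haveI := hiso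
  have nat : ∀ {X X' : T} (a : X ⟶ X'), (S.map a)⟦(1 : ℤ)⟧' ≫ E X' = E X ≫ S.map (a⟦(1 : ℤ)⟧') := by
    intro X X' a
    refine D.ext fun p => ?_
    obtain ⟨q, rfl⟩ := (shiftFunctor T (1 : ℤ)).map_surjective p
    rw [← Category.assoc, ← Functor.map_comp, hE, ← D.cyc, ← Category.assoc, ← D.cyc (a⟦(1 : ℤ)⟧'),
      ← Category.assoc, ← Functor.map_comp, hE]
  let e : shiftFunctor T (1 : ℤ) ⋙ S ≅ S ⋙ shiftFunctor T (1 : ℤ) :=
    (NatIso.ofComponents (fun X => @asIso _ _ _ _ (E X) (hiso X)) (fun a => nat a)).symm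
  refine ⟨e, fun T' hT' => ?_⟩
  let f := T'.mor₁; let g := T'.mor₂; let h := T'.mor₃
  obtain ⟨Z, v, w, hZ⟩ := distinguished_cocone_triangle (S.map f)
  let Ψ : (T'.obj₃ ⟶ S.obj T'.obj₂) × (T'.obj₁⟦(1 : ℤ)⟧ ⟶ Z) →ₗ[k] (T'.obj₃ ⟶ Z) :=
    (Linear.rightComp k T'.obj₃ v).coprod (Linear.leftComp k Z h)
  let Φ : Module.Dual k ((T'.obj₃ ⟶ S.obj T'.obj₂) × (T'.obj₁⟦(1 : ℤ)⟧ ⟶ Z)) :=
    ((D.tr T'.obj₃) ∘ₗ Linear.rightComp k T'.obj₃ (S.map g)).coprod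
      ((D.tr (T'.obj₁⟦(1 : ℤ)⟧)) ∘ₗ Linear.rightComp k _ (w ≫ E T'.obj₁))
  have hker : Φ ∈ (LinearMap.ker Ψ).dualAnnihilator := by
    refine (Submodule.mem_dualAnnihilator _).2 ?_
    rintro ⟨u, z⟩ huz
    have huz' : u ≫ v + h ≫ z = 0 := huz
    obtain ⟨a, ha1', ha3'⟩ : ∃ a : T'.obj₂ ⟶ S.obj T'.obj₁, g ≫ u = a ≫ S.map f ∧
        (-(f⟦(1 : ℤ)⟧')) ≫ a⟦(1 : ℤ)⟧' = (-z) ≫ w := complete_distinguished_triangle_morphism₁ T'.rotate (Triangle.mk (S.map f) v w)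
      (rot_of_distTriang _ hT') hZ u (-z) (by
        show h ≫ (-z) = u ≫ v
        rw [Preadditive.comp_neg]
        exact (eq_neg_of_add_eq_zero_left huz').symm)
    have ha3'' : (f ≫ a)⟦(1 : ℤ)⟧' = z ≫ w := neg_injective (by
      rw [Functor.map_comp, ← Preadditive.neg_comp]
      exact ha3'.trans (Preadditive.neg_comp _ _))
    show D.tr T'.obj₃ (u ≫ S.map g) + D.tr _ (z ≫ w ≫ E T'.obj₁) = 0
    rw [← D.cyc g u, ha1', ← D.cyc f a, ← Category.assoc, ← ha3'', hE, add_neg_cancel]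
  rw [← LinearMap.range_dualMap_eq_dualAnnihilator_ker] at hker
  obtain ⟨ξ, hξ⟩ := hker
  obtain ⟨φ, hφ⟩ := (D.bij T'.obj₃ Z).2 ξ
  have hφ' : ∀ p : T'.obj₃ ⟶ Z, D.tr T'.obj₃ (p ≫ φ) = ξ p := fun p => congrArg (fun l => l p) hφ
  have h2 : v ≫ φ = S.map g := D.ext fun u => by
    rw [← Category.assoc, hφ']
    have := congrArg (fun l => l (u, 0)) hξ
    simpa [Ψ, Φ] using this
  have h3 : φ ≫ S.map h = w ≫ E T'.obj₁ := D.ext fun z => by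
    rw [← Category.assoc, ← D.cyc, ← Category.assoc, hφ']
    have := congrArg (fun l => l (0, z)) hξ
    simpa [Ψ, Φ] using this
  have hz₁ : S.map g ≫ S.map h = 0 := by
    rw [← S.map_comp, comp_distTriang_mor_zero₂₃ _ hT', S.map_zero]
  -- postcomposition with `φ` is bijective from objects in the image
  have hinj : ∀ (Y : T) (p : S.obj Y ⟶ Z), p ≫ φ = 0 → p = 0 := fun Y p hp => by
    have hpw : p ≫ w = 0 := by
      rw [← cancel_mono (E T'.obj₁), zero_comp, Category.assoc, ← h3, ← Category.assoc, hp, zero_comp]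
    obtain ⟨r, hr⟩ : ∃ r : S.obj Y ⟶ S.obj T'.obj₂, p = r ≫ v := Triangle.coyoneda_exact₃ _ hZ p hpw
    obtain ⟨n, rfl⟩ := S.map_surjective r
    have hng : n ≫ g = 0 := S.map_injective (by rw [S.map_comp, ← h2, S.map_zero, ← Category.assoc]; exact (congrArg (· ≫ φ) hr).symm.trans hp)
    obtain ⟨m, hm⟩ := Triangle.coyoneda_exact₂ _ hT' n hng
    rw [hr, hm, S.map_comp]
    exact (Category.assoc _ _ _).trans ((congrArg (fun q => S.map m ≫ q) (comp_distTriang_mor_zero₁₂ _ hZ)).trans comp_zero)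
  have hsurj : ∀ (Y : T) (q : S.obj Y ⟶ S.obj T'.obj₃), ∃ p : S.obj Y ⟶ Z, p ≫ φ = q := fun Y q => by
    let r : S.obj Y ⟶ (S.obj T'.obj₁)⟦(1 : ℤ)⟧ := q ≫ S.map h ≫ inv (E T'.obj₁)
    have hr : r ≫ (S.map f)⟦(1 : ℤ)⟧' = 0 := by
      have hn : inv (E T'.obj₁) ≫ (S.map f)⟦(1 : ℤ)⟧' = S.map (f⟦(1 : ℤ)⟧') ≫ inv (E T'.obj₂) := by
        rw [IsIso.inv_comp_eq, ← Category.assoc, IsIso.eq_comp_inv, nat]
      show (q ≫ S.map h ≫ inv (E T'.obj₁)) ≫ _ = 0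
      rw [Category.assoc, Category.assoc, hn, ← Category.assoc (S.map h), ← S.map_comp,
        comp_distTriang_mor_zero₃₁ _ hT', S.map_zero, zero_comp, comp_zero]
    obtain ⟨p, hp⟩ : ∃ p : S.obj Y ⟶ Z, r = p ≫ w := Triangle.coyoneda_exact₁ _ hZ r hr
    obtain ⟨m, hm⟩ := S.map_surjective (q - p ≫ φ)
    have hmh : m ≫ h = 0 := S.map_injective (by
      rw [S.map_comp, hm, S.map_zero, Preadditive.sub_comp, Category.assoc, h3, ← Category.assoc, ← hp]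
      simp [r])
    obtain ⟨n, hn⟩ := Triangle.coyoneda_exact₃ _ hT' m hmh
    refine ⟨p + S.map n ≫ v, ?_⟩
    rw [Preadditive.add_comp, Category.assoc, h2, ← S.map_comp, ← hn, hm, add_sub_cancel]
  obtain ⟨θ, hθ⟩ := hsurj T'.obj₃ (𝟙 _)
  haveI : Mono φ := by
    refine Preadditive.mono_of_cancel_zero _ fun {Y} p hp => ?_
    obtain ⟨Y', ⟨i⟩⟩ : ∃ Y', Nonempty (S.obj Y' ≅ Y) := by
      haveI : S.EssSurj := D.essSurj
      exact ⟨_, ⟨S.objObjPreimageIso Y⟩⟩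
    rw [← cancel_epi i.hom, comp_zero]
    exact hinj Y' _ (by rw [Category.assoc, hp, comp_zero])
  haveI : IsSplitEpi φ := IsSplitEpi.mk' ⟨θ, hθ⟩
  haveI : IsIso φ := isIso_of_mono_of_isSplitEpi φ
  refine isomorphic_distinguished _ hZ _ (Triangle.isoMk _ _ (Iso.refl _) (Iso.refl _) (asIso φ).symm ?_ ?_ ?_)
  · show S.map f ≫ 𝟙 _ = 𝟙 _ ≫ S.map f
    simp
  · show S.map g ≫ inv φ = 𝟙 _ ≫ v
    rw [Category.id_comp, IsIso.comp_inv_eq, h2]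
  · show (S.map h ≫ inv (E T'.obj₁)) ≫ (𝟙 (S.obj T'.obj₁))⟦(1 : ℤ)⟧' = inv φ ≫ w
    rw [CategoryTheory.Functor.map_id, Category.comp_id, IsIso.comp_inv_eq, Category.assoc, IsIso.eq_inv_comp, h3]

end Groth.L29.SerreExact
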